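import Groth.Agent.Lib.PnDualSheafHom
import Groth.Agent.AmpleVan.LiftFibre
import Groth.Agent.FlatFunHx.Stalk
import Groth.Agent.KFlatLib.Scheme.Pullback
import Groth.Agent.ArtFunLib.HilbMod
import Groth.Prelude.Def_Omega2

/-! Extending morphisms to the structure module of a closed subscheme from local extensions. -/

set_option autoImplicit false
set_option linter.style.haveILetI false
set_option backward.isDefEq.respectTransparency false
set_option backward.isDefEq.respectTransparency.types false

universe u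

open CategoryTheory CategoryTheory.Limits AlgebraicGeometry

namespace Groth.Agent.HilbLci76

open Groth.Agent

theorem mono_map_of_iso {C D : Type*} [Category C] [Category D] {F G : C ⥤ D} (e : F ≅ G) {A B : C} (f : A ⟶ B)
    (h : Mono (F.map f)) : Mono (G.map f) := by
  haveI := h
  rw [show G.map f = e.inv.app A ≫ F.map f ≫ e.hom.app B by simp]
  infer_instance

/-- A morphism of modules whose inverse image along `i` is split near every point is injective after `i^*`. -/
theorem mono_pullback_of_locally_split {X Y : Scheme.{u}} (i : Y ⟶ X) {N E : X.Modules} (a : N ⟶ E)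
    (h : ∀ y : Y, ∃ V : X.Opens, i y ∈ V ∧ ∃ r : (Scheme.Modules.restrictFunctor V.ι).obj E ⟶
      (Scheme.Modules.restrictFunctor V.ι).obj N, (Scheme.Modules.restrictFunctor V.ι).map a ≫ r = 𝟙 _) :
    Mono ((Scheme.Modules.pullback i).map a) := by
  refine (FlatFunHx.mono_iff_stalk _).2 fun y => ?_
  obtain ⟨V, hy, r, hr⟩ := h y
  haveI : IsSplitMono ((Scheme.Modules.restrictFunctor V.ι).map a) := ⟨⟨⟨r, hr⟩⟩⟩
  haveI : IsSplitMono ((Scheme.Modules.pullback V.ι).map a) := by
    have e := (Scheme.Modules.restrictFunctorIsoPullback V.ι).hom.naturality a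
    refine ⟨⟨⟨(Scheme.Modules.restrictFunctorIsoPullback V.ι).inv.app E ≫ r ≫
      (Scheme.Modules.restrictFunctorIsoPullback V.ι).hom.app N, ?_⟩⟩⟩
    rw [← cancel_epi ((Scheme.Modules.restrictFunctorIsoPullback V.ι).hom.app N), ← Category.assoc, ← e,
      Category.assoc, Iso.hom_inv_id_app_assoc, ← Category.assoc, hr, Category.id_comp, Category.comp_id]
  let W := i ⁻¹ᵁ V
  have hm1 : Mono ((Scheme.Modules.pullback (W.ι ≫ i)).map a) :=
    mono_map_of_iso ((Scheme.Modules.pullbackComp (i ∣_ V) V.ι) ≪≫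
      Scheme.Modules.pullbackCongr (morphismRestrict_ι i V)) a (by rw [Functor.comp_map]; infer_instance)
  have hm : Mono ((Scheme.Modules.pullback W.ι).map ((Scheme.Modules.pullback i).map a)) :=
    mono_map_of_iso (Scheme.Modules.pullbackComp W.ι i).symm a hm1
  have hst := (FlatFunHx.mono_iff_stalk _).1 hm (⟨y, hy⟩ : W)
  have h3 : Mono ((ModuleCat.extendScalars (W.ι.stalkMap ⟨y, hy⟩).hom).map
      ((DerSch.stalkFunctor Y y).map ((Scheme.Modules.pullback i).map a))) :=
    mono_map_of_iso (KFlatLib.stalkPullbackIso W.ι (⟨y, hy⟩ : W)) ((Scheme.Modules.pullback i).map a) hst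
  exact (FlatFunHx.mono_extendScalars_iff _ (RingHom.FaithfullyFlat.of_bijective
    (ConcreteCategory.bijective_of_isIso (W.ι.stalkMap ⟨y, hy⟩))) _).1 h3

variable {X : Scheme.{u}} (I₀ : X.IdealSheafData)

/-- A morphism on the kernel of `φ : G → I₀` which extends near every point of the closed subscheme extends. -/
theorem exists_extend_of_locally [HasExt.{u} I₀.subscheme.Modules]
    (h1 : Subsingleton (Abelian.Ext.{u} ((Scheme.Modules.pullback I₀.subschemeι).obj (ClSub.idealMod I₀))
      (Coh.structureModule I₀.subscheme) 1))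
    {G : X.Modules} (φ : G ⟶ ClSub.idealMod I₀) [Epi φ] (κ : kernel φ ⟶ ClSub.quotMod I₀)
    (hloc : ∀ y : I₀.subscheme, ∃ V : X.Opens, I₀.subschemeι y ∈ V ∧
      ∃ θ : (Scheme.Modules.restrictFunctor V.ι).obj G ⟶ (Scheme.Modules.restrictFunctor V.ι).obj (ClSub.quotMod I₀),
        (Scheme.Modules.restrictFunctor V.ι).map (kernel.ι φ) ≫ θ = (Scheme.Modules.restrictFunctor V.ι).map κ) :
    ∃ θ : G ⟶ ClSub.quotMod I₀, kernel.ι φ ≫ θ = κ := by
  let E := pushout (kernel.ι φ) κ
  let a : ClSub.quotMod I₀ ⟶ E := pushout.inr _ _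
  let q : E ⟶ ClSub.idealMod I₀ := pushout.desc φ 0 (by rw [kernel.condition, comp_zero])
  have haq : a ≫ q = 0 := pushout.inr_desc _ _ _
  haveI : Epi q := epi_of_epi_fac (pushout.inl_desc φ 0 (by rw [kernel.condition, comp_zero]) : pushout.inl _ _ ≫ q = φ)
  let p := I₀.subschemeι
  let L := Scheme.Modules.pullback p
  haveI : Mono (L.map a) := by
    refine mono_pullback_of_locally_split p a fun y => ?_
    obtain ⟨V, hy, θ, hθ⟩ := hloc y
    have hpo := (IsPushout.of_hasPushout (kernel.ι φ) κ).map (Scheme.Modules.restrictFunctor V.ι)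
    exact ⟨V, hy, hpo.desc θ (𝟙 _) (by rw [hθ, Category.comp_id]), hpo.inr_desc _ _ _⟩
  -- `q` is the cokernel of `a`
  have hcok : IsColimit (CokernelCofork.ofπ q haq) := by
    refine CokernelCofork.IsColimit.ofπ' q haq fun {T} g hg => ?_
    have hg' : kernel.ι φ ≫ pushout.inl _ _ ≫ g = 0 := by
      rw [← Category.assoc, pushout.condition, Category.assoc, hg, comp_zero]
    refine ⟨(Abelian.epiIsCokernelOfKernel _ (kernelIsKernel φ)).desc (CokernelCofork.ofπ _ hg'), pushout.hom_ext ?_ ?_⟩
    · rw [← Category.assoc, pushout.inl_desc]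
      exact (Abelian.epiIsCokernelOfKernel _ (kernelIsKernel φ)).fac (CokernelCofork.ofπ _ hg') WalkingParallelPair.one
    · rw [← Category.assoc, pushout.inr_desc, zero_comp]; exact hg.symm
  haveI : L.IsLeftAdjoint := (Scheme.Modules.pullbackPushforwardAdjunction p).isLeftAdjoint
  let S : ShortComplex I₀.subscheme.Modules := ShortComplex.mk (L.map a) (L.map q)
    (by rw [← L.map_comp, haq, L.map_zero])
  have hS : S.ShortExact :=
    { exact := ShortComplex.exact_of_g_is_cokernel S (CokernelCofork.mapIsColimit _ hcok L)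
      mono_f := inferInstanceAs (Mono (L.map a))
      epi_g := inferInstanceAs (Epi (L.map q)) }
  obtain ⟨x₂, hx₂⟩ := Abelian.Ext.contravariant_sequence_exact₁ hS (Coh.structureModule I₀.subscheme)
    (Abelian.Ext.mk₀ (((Scheme.Modules.pullbackPushforwardAdjunction p).counit.app _ :
      L.obj (ClSub.quotMod I₀) ⟶ Coh.structureModule I₀.subscheme))) (add_zero 1) (h1.elim _ _)
  obtain ⟨r, rfl⟩ := (Abelian.Ext.mk₀_bijective _ _).2 x₂
  rw [Abelian.Ext.mk₀_comp_mk₀] at hx₂
  have hr : L.map a ≫ r = _ := (Abelian.Ext.mk₀_bijective _ _).1 hx₂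
  let adj := Scheme.Modules.pullbackPushforwardAdjunction p
  let r' : E ⟶ ClSub.quotMod I₀ := adj.homEquiv _ _ r
  have har : a ≫ r' = 𝟙 _ := by
    show a ≫ adj.homEquiv _ _ r = _
    rw [← Adjunction.homEquiv_naturality_left, hr, Adjunction.homEquiv_unit]
    exact adj.right_triangle_components _
  exact ⟨pushout.inl _ _ ≫ r', by
    rw [← Category.assoc, pushout.condition, Category.assoc, har, Category.comp_id]⟩

end Groth.Agent.HilbLci76
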