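import Groth.Agent.ArtFunLib.HilbMod
import Groth.Agent.ArtFunLib.HilbFib

/-! Morphisms with prescribed values on the kernel of restriction to the closed fibre, locally extended by local lifts. -/

set_option autoImplicit false
set_option linter.style.haveILetI false
set_option backward.isDefEq.respectTransparency false
universe u

open CategoryTheory CategoryTheory.Limits AlgebraicGeometry ArtFun ArtFun.Art Opposite

namespace Groth.Agent.HilbLci76

open Groth.Agent.ArtFunLib Groth.Agent.ArtFunLib.HilbAffine Groth.Agent.ArtFunLib.HilbSit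
  Groth.Agent.ArtFunLib.HilbMod

variable {k : Type u} [Field k] {X : Scheme.{u}} {x : X ⟶ specPt k} {B A : Art k k}
  (P : (XA x B).IdealSheafData)

/-- A morphism with prescribed values on `m P + t R`. -/
theorem exists_kappa (I₀ : X.IdealSheafData)
    (φ : G P ⟶ ClSub.idealMod I₀) [Epi φ]
    (hφ : ∀ (U : X.affineOpens) s, OmegaSh.idealSect I₀ U.1 (φ.app U.1 s) = rho x B U (el P U s))
    (t : B)
    (mP : ∀ U : X.affineOpens, Ideal Γ(XA x B, (W x B U).1))
    (hmP : mP = fun U => (IsLocalRing.maximalIdeal B).map (c x B U) * P.ideal (W x B U))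
    (hrep : ∀ U e, e ∈ P.ideal (W x B U) → rho x B U e = 0 → ∃ μ z, μ ∈ mP U ∧ e = μ + c x B U t * z)
    (hzero : ∀ U z, c x B U t * z ∈ mP U → I₀.subschemeι.app U.1 (rho x B U z) = 0) :
    ∃ κ : kernel φ ⟶ ClSub.quotMod I₀, ∀ (U : X.affineOpens) kk μ z, μ ∈ mP U →
      el P U ((kernel.ι φ).app U.1 kk) = μ + c x B U t * z →
      κ.app U.1 kk = I₀.subschemeι.app U.1 (rho x B U z) := by
  have hkρ : ∀ (U : X.affineOpens) (kk : Γ(kernel φ, U.1)), rho x B U (el P U ((kernel.ι φ).app U.1 kk)) = 0 := fun U kk => by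
    have e0 : φ.app U.1 ((kernel.ι φ).app U.1 kk) = 0 := congr(($(kernel.condition φ)).app U.1 kk)
    rw [← hφ, e0, map_zero]
  have hex := fun U kk => hrep U _ (el_mem P U _) (hkρ U kk)
  choose fμ fz hfμ hfe using hex
  let κf : ∀ U : X.affineOpens, Γ(kernel φ, U.1) → Γ(ClSub.quotMod I₀, U.1) := fun U kk =>
    I₀.subschemeι.app U.1 (rho x B U (fz U kk))
  have hval : ∀ U kk μ z, μ ∈ mP U → el P U ((kernel.ι φ).app U.1 kk) = μ + c x B U t * z →
      κf U kk = I₀.subschemeι.app U.1 (rho x B U z) := fun U kk μ z hμ he => by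
    rw [← sub_eq_zero]
    show I₀.subschemeι.app U.1 (rho x B U (fz U kk)) - I₀.subschemeι.app U.1 (rho x B U z) = 0
    rw [← map_sub, ← map_sub]
    refine hzero U _ ?_
    rw [show c x B U t * (fz U kk - z) = μ - fμ U kk by linear_combination (hfe U kk).symm.trans he]
    exact sub_mem hμ (hfμ U kk)
  have hadd : ∀ U a b, κf U (a + b) = κf U a + κf U b := fun U a b => by
    rw [hval U (a + b) (fμ U a + fμ U b) (fz U a + fz U b) (add_mem (hfμ U a) (hfμ U b)) (by
      rw [map_add, map_add, hfe U a, hfe U b]; ring), map_add]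
    exact map_add (I₀.subschemeι.app U.1).hom _ _
  obtain ⟨κ, hκ⟩ := FamilyHom.exists_hom_of_family (fun U => AddMonoidHom.mk' (κf U) (hadd U))
    (fun U V hV kk => by
      have hμ' : (XA x B).presheaf.map (homOfLE (W_mono x B hV)).op (fμ U kk) ∈ mP V := by
        have h1 := Ideal.mem_map_of_mem ((XA x B).presheaf.map (homOfLE (W_mono x B hV)).op).hom (hfμ U kk)
        rw [hmP] at h1 ⊢
        rw [Ideal.map_mul, Ideal.map_map, show (((XA x B).presheaf.map (homOfLE (W_mono x B hV)).op).hom).comp (c x B U) = c x B V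
          from RingHom.ext (c_map x B hV)] at h1
        exact Ideal.mul_mono le_rfl (le_of_eq (P.map_ideal (U := W x B V) (V := W x B U) (W_mono x B hV))) h1
      show (ClSub.quotMod I₀).presheaf.map (homOfLE hV).op (κf U kk) =
        κf V ((kernel φ).presheaf.map (homOfLE hV).op kk)
      rw [hval V _ _ _ hμ' (by
        rw [app_map, el_map P U V hV, hfe U kk, map_add, map_mul, c_map x B hV]), rho_map x B hV]
      exact (congr($(I₀.subschemeι.naturality (homOfLE hV).op) (rho x B U (fz U kk)))).symm)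
    (fun U r kk => by
      show κf U (r • kk) = r • κf U kk
      rw [hval U _ (fstPull x B U r * fμ U kk) (fstPull x B U r * fz U kk) (Ideal.mul_mem_left _ _ (hfμ U kk)) (by
        rw [Scheme.Modules.Hom.app_smul, el_smul, hfe U kk]; ring), map_mul, rho_fst]
      exact map_mul (I₀.subschemeι.app U.1).hom _ _)
  exact ⟨κ, fun U kk μ z hμ he => (hκ U kk).trans (hval U kk μ z hμ he)⟩

theorem flat_map_ideal {U V : X.affineOpens} (h : V.1 ≤ U.1) (J : Ideal Γ(XA x B, (W x B U).1))
    (hJ : ((Ideal.Quotient.mk J).comp (c x B U)).Flat) :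
    ((Ideal.Quotient.mk (J.map ((XA x B).presheaf.map (homOfLE (W_mono x B h)).op).hom)).comp (c x B V)).Flat := by
  let r := ((XA x B).presheaf.map (homOfLE (W_mono x B h)).op).hom
  have hr : r.Flat := by
    have := (𝟙 (XA x B) : XA x B ⟶ XA x B).flat_appLE (W x B U).2 (W x B V).2 (W_mono x B h)
    simpa [Scheme.Hom.appLE] using this
  letI := r.toAlgebra
  haveI : Module.Flat Γ(XA x B, (W x B U).1) Γ(XA x B, (W x B V).1) := hr
  have hq : (Ideal.quotientMap (J.map r) r Ideal.le_comap_map).Flat := by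
    haveI : Module.Flat (Γ(XA x B, (W x B U).1) ⧸ J) (Γ(XA x B, (W x B V).1) ⧸
        J.map (algebraMap Γ(XA x B, (W x B U).1) Γ(XA x B, (W x B V).1))) :=
      Module.Flat.of_linearEquiv (Algebra.TensorProduct.quotIdealMapEquivQuotTensor _ J).toLinearEquiv
    exact RingHom.flat_algebraMap_iff.2 this
  have h3 : (Ideal.quotientMap (J.map r) r Ideal.le_comap_map).comp ((Ideal.Quotient.mk J).comp (c x B U)) =
      (Ideal.Quotient.mk (J.map r)).comp (c x B V) := RingHom.ext fun b => by
    show Ideal.quotientMap (J.map r) r Ideal.le_comap_map (Ideal.Quotient.mk J (c x B U b)) = _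
    rw [Ideal.quotientMap_mk]
    exact congrArg _ (c_map x B h b)
  exact h3 ▸ hJ.comp hq

/-- A flat lift on an affine open extends `κ` there. -/
theorem exists_local_extend (I₀ : X.IdealSheafData) (p : B ⟶ A) (hp : Function.Surjective p) (t : B)
    (hkt : RingHom.ker p.toAlgHom.toRingHom = Ideal.span {t})
    (htm : ∀ a ∈ IsLocalRing.maximalIdeal B, a * t = 0) (ht0 : t ≠ 0)
    (IA : (localHilb X x I₀).obj A) (hP : ∀ U, P.ideal (W x B U) = (IA.1.ideal (W x A U)).comap (pi x p U))
    (φ : G P ⟶ ClSub.idealMod I₀)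
    (κ : kernel φ ⟶ ClSub.quotMod I₀)
    (hφ : ∀ (U : X.affineOpens) s, OmegaSh.idealSect I₀ U.1 (φ.app U.1 s) = rho x B U (el P U s))
    (hrep : ∀ (U : X.affineOpens) e, e ∈ P.ideal (W x B U) → rho x B U e = 0 →
      ∃ μ z, μ ∈ (IsLocalRing.maximalIdeal B).map (c x B U) * P.ideal (W x B U) ∧ e = μ + c x B U t * z)
    (hκ : ∀ (U : X.affineOpens) kk μ z, μ ∈ (IsLocalRing.maximalIdeal B).map (c x B U) * P.ideal (W x B U) →
      el P U ((kernel.ι φ).app U.1 kk) = μ + c x B U t * z →
      κ.app U.1 kk = I₀.subschemeι.app U.1 (rho x B U z))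
    (U : X.affineOpens) (J : Ideal Γ(XA x B, (W x B U).1)) (hJ : ((Ideal.Quotient.mk J).comp (c x B U)).Flat)
    (hJπ : J.map (pi x p U) = IA.1.ideal (W x A U)) :
    ∃ θ : (Scheme.Modules.restrictFunctor U.1.ι).obj (G P) ⟶
        (Scheme.Modules.restrictFunctor U.1.ι).obj (ClSub.quotMod I₀),
      (Scheme.Modules.restrictFunctor U.1.ι).map (kernel.ι φ) ≫ θ = (Scheme.Modules.restrictFunctor U.1.ι).map κ := by
  have hI0 : ∀ V, (IA.1.ideal (W x A V)).map (rho x A V) = I₀.ideal V := fun V => HilbFib.map_rho IA V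
  let im : (U.1 : Scheme.{u}).affineOpens → X.affineOpens := fun V =>
    ⟨U.1.ι ''ᵁ V.1, V.2.image_of_isOpenImmersion U.1.ι⟩
  have hle : ∀ V, (im V).1 ≤ U.1 := fun V => U.1.ι_image_le V.1
  let JV : ∀ V, Ideal Γ(XA x B, (W x B (im V)).1) := fun V =>
    J.map ((XA x B).presheaf.map (homOfLE (W_mono x B (hle V))).op).hom
  have hJVπ : ∀ V, (JV V).map (pi x p (im V)) = IA.1.ideal (W x A (im V)) := fun V => by
    rw [← IA.1.map_ideal (U := W x A (im V)) (V := W x A U) (W_mono x A (hle V)), ← hJπ, Ideal.map_map, Ideal.map_map]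
    congr 1
    exact RingHom.ext fun a => pi_map x p (hle V) a
  have hex : ∀ (V : (U.1 : Scheme.{u}).affineOpens) (s : Γ(G P, (im V).1)),
      ∃ j z, j ∈ JV V ∧ el P (im V) s = j + c x B (im V) t * z := fun V s => by
    have h1 : pi x p (im V) (el P (im V) s) ∈ IA.1.ideal (W x A (im V)) := Ideal.mem_comap.1 (hP (im V) ▸ el_mem P (im V) s)
    rw [← hJVπ, Ideal.mem_map_iff_of_surjective _ (pi_spec x p hp _).1] at h1
    obtain ⟨j, hj, hje⟩ := h1
    have h2 : el P (im V) s - j ∈ RingHom.ker (pi x p (im V)) := by rw [RingHom.mem_ker, map_sub, hje, sub_self]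
    rw [(pi_spec x p hp _).2, hkt, Ideal.map_span, Set.image_singleton, Ideal.mem_span_singleton] at h2
    obtain ⟨z, hz⟩ := h2
    exact ⟨j, z, hj, by rw [← hz, add_sub_cancel]⟩
  choose fj fz hfj hfe using hex
  let f : ∀ V, Γ(G P, (im V).1) → Γ(ClSub.quotMod I₀, (im V).1) := fun V s =>
    I₀.subschemeι.app (im V).1 (rho x B (im V) (fz V s))
  have hval : ∀ V s j z, j ∈ JV V → el P (im V) s = j + c x B (im V) t * z →
      f V s = I₀.subschemeι.app (im V).1 (rho x B (im V) z) := fun V s j z hj he => by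
    rw [← sub_eq_zero]
    show I₀.subschemeι.app _ (rho x B _ (fz V s)) - I₀.subschemeι.app _ (rho x B _ z) = 0
    rw [← map_sub, ← map_sub, ← RingHom.mem_ker, I₀.ker_subschemeι_app, ← hI0]
    have h1 : c x B (im V) t * (fz V s - z) ∈ JV V := by
      rw [show c x B (im V) t * (fz V s - z) = j - fj V s by linear_combination (hfe V s).symm.trans he]
      exact sub_mem hj (hfj V s)
    have h2 := HilbRing.mem_of_smul_mem (c x B (im V)) (flat_map_ideal (hle V) J hJ) t
      (IsLocalRing.maximalIdeal B) (fun b hb => by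
        by_contra hnb
        exact ht0 ((IsLocalRing.notMem_maximalIdeal.1 hnb).mul_left_eq_zero.mp hb)) _ h1
    obtain ⟨a, ha, b, hb, hab⟩ := Submodule.mem_sup.1 h2
    rw [← hab, map_add, RingHom.mem_ker.1 ((rho_spec x B (im V)).2.ge ha), zero_add, ← rho_pi x p, ← hJVπ]
    exact Ideal.mem_map_of_mem _ (Ideal.mem_map_of_mem _ hb)
  have hmP : ∀ V, (IsLocalRing.maximalIdeal B).map (c x B (im V)) * P.ideal (W x B (im V)) ≤ JV V := fun V =>
    Ideal.mul_le.2 fun a ha e he => by
      obtain ⟨s, rfl⟩ := exists_el P (im V) e he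
      have ha' : a * c x B (im V) t = 0 := by
        have : (IsLocalRing.maximalIdeal B).map (c x B (im V)) ≤
            LinearMap.ker (LinearMap.mulRight Γ(XA x B, (W x B (im V)).1) (c x B (im V) t)) :=
          Ideal.map_le_iff_le_comap.2 fun b hb => by
            show c x B (im V) b * c x B (im V) t = 0
            rw [← map_mul, htm b hb, map_zero]
        exact this ha
      rw [hfe V s, mul_add, ← mul_assoc, ha', zero_mul, add_zero]
      exact Ideal.mul_mem_left _ _ (hfj V s)
  have hadd : ∀ V s s', f V (s + s') = f V s + f V s' := fun V s s' => by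
    rw [hval V (s + s') (fj V s + fj V s') (fz V s + fz V s') (add_mem (hfj V s) (hfj V s')) (by
      rw [map_add, hfe V s, hfe V s']; ring), map_add]
    exact map_add (I₀.subschemeι.app (im V).1).hom _ _
  obtain ⟨θ, hθ⟩ := FamilyHom.exists_hom_of_family
    (M := (Scheme.Modules.restrictFunctor U.1.ι).obj (G P))
    (N := (Scheme.Modules.restrictFunctor U.1.ι).obj (ClSub.quotMod I₀))
    (fun V => AddMonoidHom.mk' (f V) (hadd V))
    (fun V V' hV s => by
      have hV' : (im V').1 ≤ (im V).1 := U.1.ι.image_mono hV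
      have hjr : (XA x B).presheaf.map (homOfLE (W_mono x B hV')).op (fj V s) ∈ JV V' := by
        have h1 := Ideal.mem_map_of_mem ((XA x B).presheaf.map (homOfLE (W_mono x B hV')).op).hom (hfj V s)
        rwa [Ideal.map_map, ← CommRingCat.hom_comp, ← Functor.map_comp] at h1
      show (ClSub.quotMod I₀).presheaf.map (homOfLE hV').op (f V s) =
        f V' ((G P).presheaf.map (homOfLE hV').op s)
      rw [hval V' _ _ _ hjr (by rw [el_map P (im V) (im V') hV', hfe V s, map_add, map_mul, c_map x B hV']),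
        rho_map x B hV']
      exact (congr($(I₀.subschemeι.naturality (homOfLE hV').op) (rho x B (im V) (fz V s)))).symm)
    (fun V r s => by
      let r' : Γ(X, (im V).1) := (U.1.ι.appIso V.1).inv r
      show f V (r' • (show Γ(G P, (im V).1) from s)) = r' • f V s
      rw [hval V _ (fstPull x B (im V) r' * fj V s) (fstPull x B (im V) r' * fz V s)
        (Ideal.mul_mem_left _ _ (hfj V s)) (by rw [el_smul, hfe V s]; ring), map_mul, rho_fst]
      exact map_mul (I₀.subschemeι.app (im V).1).hom _ _)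
  refine ⟨θ, Scheme.Modules.hom_ext _ _ fun V => ?_⟩
  ext s
  refine FamilyHom.ext_affine _ V _ _ fun V' hV' => ?_
  refine (app_map _ hV' s).symm.trans (Eq.trans ?_ (app_map _ hV' s))
  generalize ((Scheme.Modules.restrictFunctor U.1.ι).obj (kernel φ)).presheaf.map (homOfLE hV').op s = kk
  show θ.app V'.1 ((kernel.ι φ).app (im V').1 kk) = κ.app (im V').1 kk
  have hρ0 : rho x B (im V') (el P (im V') ((kernel.ι φ).app (im V').1 kk)) = 0 := by
    rw [← hφ]
    have e0 : φ.app (im V').1 ((kernel.ι φ).app (im V').1 kk) = 0 := congr(($(kernel.condition φ)).app (im V').1 kk)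
    rw [e0, map_zero]
  obtain ⟨μ, z, hμ, he⟩ := hrep (im V') _ (el_mem P (im V') _) hρ0
  exact ((hθ V' _).trans (hval V' _ μ z (hmP V' hμ) he)).trans (hκ (im V') kk μ z hμ he).symm

end Groth.Agent.HilbLci76
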