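import Groth.Agent.ArtFunLib.HilbIdeal
import Groth.Agent.HilbLci76.Extend
import Groth.Agent.HilbLci76.Theta

/-! Local lifts and vanishing of `Ext¹` on the subscheme give global lifts of embedded deformations. -/

set_option autoImplicit false
set_option linter.style.haveILetI false
set_option backward.isDefEq.respectTransparency false
universe u

open CategoryTheory CategoryTheory.Limits AlgebraicGeometry ArtFun ArtFun.Art Opposite

namespace Groth.Agent.HilbLci76

open Groth.Agent.ArtFunLib Groth.Agent.ArtFunLib.HilbAffine Groth.Agent.ArtFunLib.HilbSit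
  Groth.Agent.ArtFunLib.HilbMod Groth.Agent.ArtFunLib.HilbIdeal

variable {k : Type u} [Field k] (X : Scheme.{u}) (x : X ⟶ specPt k) (I₀ : X.IdealSheafData)

/-- Morphisms on kernels of covers of `I₀` which extend locally extend. -/
def LocToGlob : Prop :=
  ∀ {G : X.Modules} (φ : G ⟶ ClSub.idealMod I₀) [Epi φ] (κ : kernel φ ⟶ ClSub.quotMod I₀),
    (∀ y : I₀.subscheme, ∃ V : X.Opens, I₀.subschemeι y ∈ V ∧
      ∃ θ : (Scheme.Modules.restrictFunctor V.ι).obj G ⟶ (Scheme.Modules.restrictFunctor V.ι).obj (ClSub.quotMod I₀),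
        (Scheme.Modules.restrictFunctor V.ι).map (kernel.ι φ) ≫ θ = (Scheme.Modules.restrictFunctor V.ι).map κ) →
    ∃ θ : G ⟶ ClSub.quotMod I₀, kernel.ι φ ≫ θ = κ

theorem small_surjective_of_extend (hext : LocToGlob X I₀)
    {B A : Art k k} (p : B ⟶ A) (hp : IsSmallExt p) (IA : (localHilb X x I₀).obj A)
    (hloc : ∀ y : I₀.subscheme, ∃ U : X.affineOpens, I₀.subschemeι y ∈ U.1 ∧
      ∃ J : Ideal Γ(XA x B, (W x B U).1), ((Ideal.Quotient.mk J).comp (c x B U)).Flat ∧
        J.map (pi x p U) = IA.1.ideal (W x A U)) :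
    ∃ I : (localHilb X x I₀).obj B, I.1.comap (XAmap x p) = IA.1 := by
  obtain ⟨t, ht⟩ := hp.2.2.1
  have hkt : RingHom.ker p.toAlgHom.toRingHom = Ideal.span {t} := ht
  have ht0 : t ≠ 0 := fun h0 => hp.2.1 (ht.trans (by
    show Ideal.span {t} = ⊥; rw [h0, Ideal.span_singleton_zero]))
  have hm0 : IsLocalRing.maximalIdeal B * Ideal.span {t} = ⊥ := by rw [← hkt]; exact hp.2.2.2
  have hpt : p t = 0 := RingHom.mem_ker.1 (hkt.ge (Ideal.mem_span_singleton_self t))
  have htm : t ∈ IsLocalRing.maximalIdeal B := ArtFunLib.ker_le_maximalIdeal p (hkt.ge (Ideal.mem_span_singleton_self t))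
  haveI := isClosedImmersion_map x p hp.1
  have hIA : ∀ U, ((Ideal.Quotient.mk (IA.1.ideal (W x A U))).comp (c x A U)).Flat :=
    fun U => flat_quotient x IA.1 IA.2.1 U
  have h0A : ∀ U, (IA.1.ideal (W x A U)).map (rho x A U) = I₀.ideal U := fun U => by
    rw [← comap_incl_ideal, IA.2.2]
  obtain ⟨P, hP⟩ : ∃ P : (XA x B).IdealSheafData,
      ∀ U, P.ideal (W x B U) = (IA.1.ideal (W x A U)).comap (pi x p U) :=
    ⟨IA.1.map (XAmap x p), fun U => Ideal.ext fun a =>
      mem_map_iff (XAmap x p) IA.1 (W x B U) (W x A U) (pi_le x p U) (pi_le x p U).le a⟩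
  have h0 : ∀ U, (P.ideal (W x B U)).map (rho x B U) = I₀.ideal U := fun U => by
    rw [hP, show rho x B U = (rho x A U).comp (pi x p U) from RingHom.ext fun a => (rho_pi x p U a).symm,
      ← Ideal.map_map, Ideal.map_comap_of_surjective _ (pi_spec x p hp.1 U).1, h0A]
  obtain ⟨φ, hepi, hφ⟩ := exists_phi P I₀ h0
  haveI := hepi
  have hrep : ∀ (U : X.affineOpens) e, e ∈ P.ideal (W x B U) → rho x B U e = 0 →
      ∃ μ z, μ ∈ (IsLocalRing.maximalIdeal B).map (c x B U) * P.ideal (W x B U) ∧ e = μ + c x B U t * z :=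
    fun U e he hρ => by
      rw [hP] at he
      obtain ⟨μ, hμ, w, hw, e'⟩ := Submodule.mem_sup.1
        (HilbObsRing.inf_ker_le (sit x p hp.1 t hkt ht0 hm0 U) (hIA U) ⟨he, RingHom.mem_ker.2 hρ⟩)
      obtain ⟨z, rfl⟩ := Ideal.mem_span_singleton'.1 hw
      exact ⟨μ, z, by rw [hP]; exact hμ, e'.symm.trans (by rw [mul_comm z]; rfl)⟩
  obtain ⟨κ, hκ⟩ := exists_kappa P I₀ φ hφ t
    (fun U => (IsLocalRing.maximalIdeal B).map (c x B U) * P.ideal (W x B U)) rfl hrep
    (fun U z hz => by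
      rw [hP] at hz
      have := HilbObsRing.rho_mem_of_mem_mul (sit x p hp.1 t hkt ht0 hm0 U) (hIA U) z hz
      rw [← RingHom.mem_ker, I₀.ker_subschemeι_app, ← h0A U]
      exact this)
  obtain ⟨θ, hθκ⟩ := hext φ κ fun y => by
    obtain ⟨U, hy, J, hJ, hJπ⟩ := hloc y
    exact ⟨U.1, hy, exists_local_extend P I₀ p hp.1 t hkt (fun a ha => by
      rw [← Ideal.mem_bot, ← hm0]; exact Ideal.mul_mem_mul ha (Ideal.mem_span_singleton_self t)) ht0 IA hP φ κ hφ hrep hκ U J hJ hJπ⟩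
  have hθ : ∀ (U : X.affineOpens) s μ z, μ ∈ (IsLocalRing.maximalIdeal B).map (c x B U) * P.ideal (W x B U) →
      el P U s = μ + c x B U t * z → θ.app U.1 s = I₀.subschemeι.app U.1 (rho x B U z) := fun U s μ z hμ he => by
    have hρ0 : rho x B U (el P U s) = 0 := by
      have e1 : ∀ a ∈ (IsLocalRing.maximalIdeal B).map (c x B U), rho x B U a = 0 := fun a ha =>
        RingHom.mem_ker.1 ((rho_spec x B U).2.ge ha)
      rw [he, map_add, map_mul, e1 μ (Ideal.mul_le_left hμ),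
        e1 (c x B U t) (Ideal.mem_map_of_mem _ htm), zero_mul, add_zero]
    have hs0 : φ.app U.1 s = 0 := OmegaLib.idealSect_injective I₀ U.1 (by rw [hφ, hρ0, map_zero])
    have hk := OmegaSh.ι_kerLift φ U.1 s hs0
    have e2 : θ.app U.1 ((kernel.ι φ).app U.1 (OmegaSh.kerLift φ U.1 s hs0)) =
        κ.app U.1 (OmegaSh.kerLift φ U.1 s hs0) := congr(($hθκ).app U.1 _)
    rw [hk] at e2
    exact e2.trans (hκ U _ μ z hμ (by rw [hk, he]))
  have hlin : ∀ (U : X.affineOpens) s (R : Γ(XA x B, (W x B U).1)) s', el P U s' = R * el P U s →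
      θ.app U.1 s' = rho x B U R • θ.app U.1 s := fun U s R s' he => by
    rw [← Scheme.Modules.Hom.app_smul, ← sub_eq_zero, ← map_sub]
    rw [hθ U _ ((R - fstPull x B U (rho x B U R)) * el P U s) 0 ?_ ?_, map_zero]
    · exact map_zero (I₀.subschemeι.app U.1).hom
    · refine Ideal.mul_mem_mul ?_ (el_mem P U s)
      rw [← (rho_spec x B U).2, RingHom.mem_ker, map_sub, rho_fst, sub_self]
    · rw [mul_zero, add_zero, sub_mul, ← he, ← el_smul, map_sub]
  obtain ⟨I, hI⟩ := exists_ideal P I₀ θ hlin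
  have hcz : ∀ U z, ∃ s, el P U s = c x B U t * z ∧ θ.app U.1 s = I₀.subschemeι.app U.1 (rho x B U z) := fun U z => by
    obtain ⟨s, hs⟩ := exists_el P U (c x B U t * z) (by
      rw [hP, Ideal.mem_comap, map_mul, pi_c, hpt, map_zero, zero_mul]; exact zero_mem _)
    exact ⟨s, hs, hθ U s 0 z (zero_mem _) (by rw [hs, zero_add])⟩
  have hmapA : ∀ U, (I.ideal (W x B U)).map (pi x p U) = IA.1.ideal (W x A U) := fun U => by
    refine le_antisymm (Ideal.map_le_iff_le_comap.2 fun a ha => ?_) fun α hα => ?_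
    · obtain ⟨s, rfl, -⟩ := (hI U a).1 ha
      exact hP U ▸ el_mem P U s
    · obtain ⟨a, rfl⟩ := (pi_spec x p hp.1 U).1 α
      obtain ⟨s, hs⟩ := exists_el P U a (by rw [hP]; exact hα)
      obtain ⟨w, hw⟩ := I₀.subschemeι_app_surjective U (θ.app U.1 s)
      obtain ⟨z, hz⟩ := (rho_spec x B U).1 w
      obtain ⟨s', hs', hs'θ⟩ := hcz U z
      have hmem : a - c x B U t * z ∈ I.ideal (W x B U) :=
        (hI U _).2 ⟨s - s', by rw [map_sub, hs, hs'], by rw [map_sub, hs'θ, hz, hw]; exact sub_self _⟩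
      have h5 := Ideal.mem_map_of_mem (pi x p U) hmem
      rwa [map_sub, map_mul, pi_c, hpt, map_zero, zero_mul, sub_zero] at h5
  have hcomap : I.comap (XAmap x p) = IA.1 := HilbAffine.ext_ideal x fun U => by
    rw [comap_map_ideal, hmapA]
  refine ⟨⟨I, ?_, ?_⟩, hcomap⟩
  · refine flat_of_ideals I fun U => ?_
    refine HilbObsRing.flat_of_lift (sit x p hp.1 t hkt ht0 hm0 U) (hIA U) (rho_spec x B U).1
      (I.ideal (W x B U)) (hmapA U) fun z hz => ?_
    obtain ⟨s, hs, hs0⟩ := (hI U _).1 hz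
    obtain ⟨s', hs', hs'θ⟩ := hcz U z
    obtain rfl : s = s' := el_injective P U (hs.trans hs'.symm)
    show rho x B U z ∈ (IA.1.ideal (W x A U)).map (rho x A U)
    rw [h0A, ← I₀.ker_subschemeι_app, RingHom.mem_ker]
    exact hs'θ.symm.trans hs0
  · rw [← XAincl_XAmap x p, Scheme.IdealSheafData.comap_comp, hcomap, IA.2.2]

theorem isSmooth_of_extend (hext : LocToGlob X I₀)
    (hloc : ∀ ⦃B A : Art k k⦄ (p : B ⟶ A), IsSmallExt p → ∀ (IA : (localHilb X x I₀).obj A) (y : I₀.subscheme),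
      ∃ U : X.affineOpens, I₀.subschemeι y ∈ U.1 ∧
      ∃ J : Ideal Γ(XA x B, (W x B U).1), ((Ideal.Quotient.mk J).comp (c x B U)).Flat ∧
        J.map (pi x p U) = IA.1.ideal (W x A U)) :
    IsSmoothFunctor (localHilb X x I₀) := by
  intro B A p hp
  refine ArtFunLib.surjective_induction (P := fun _ _ q => Function.Surjective ((localHilb X x I₀).map q)) ?_ ?_ ?_ p hp
  · intro A B e he
    haveI := he
    exact ((isIso_iff_bijective _).1 (inferInstance : IsIso ((localHilb X x I₀).map e))).2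
  · intro A B q hq IA
    obtain ⟨I, hI⟩ := small_surjective_of_extend X x I₀ hext q hq IA (hloc q hq IA)
    exact ⟨I, Subtype.ext hI⟩
  · intro A B C q r _ _ h1 h2
    rw [Functor.map_comp]
    exact h2.comp h1

variable [HasExt.{u} I₀.subscheme.Modules]

theorem small_surjective
    (h : Subsingleton (Abelian.Ext.{u} ((Scheme.Modules.pullback I₀.subschemeι).obj (ClSub.idealMod I₀))
      (Coh.structureModule I₀.subscheme) 1))
    {B A : Art k k} (p : B ⟶ A) (hp : IsSmallExt p) (IA : (localHilb X x I₀).obj A)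
    (hloc : ∀ y : I₀.subscheme, ∃ U : X.affineOpens, I₀.subschemeι y ∈ U.1 ∧
      ∃ J : Ideal Γ(XA x B, (W x B U).1), ((Ideal.Quotient.mk J).comp (c x B U)).Flat ∧
        J.map (pi x p U) = IA.1.ideal (W x A U)) :
    ∃ I : (localHilb X x I₀).obj B, I.1.comap (XAmap x p) = IA.1 :=
  small_surjective_of_extend X x I₀ (fun φ _ κ hl => exists_extend_of_locally I₀ h φ κ hl) p hp IA hloc

theorem isSmooth
    (h : Subsingleton (Abelian.Ext.{u} ((Scheme.Modules.pullback I₀.subschemeι).obj (ClSub.idealMod I₀))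
      (Coh.structureModule I₀.subscheme) 1))
    (hloc : ∀ ⦃B A : Art k k⦄ (p : B ⟶ A), IsSmallExt p → ∀ (IA : (localHilb X x I₀).obj A) (y : I₀.subscheme),
      ∃ U : X.affineOpens, I₀.subschemeι y ∈ U.1 ∧
      ∃ J : Ideal Γ(XA x B, (W x B U).1), ((Ideal.Quotient.mk J).comp (c x B U)).Flat ∧
        J.map (pi x p U) = IA.1.ideal (W x A U)) :
    IsSmoothFunctor (localHilb X x I₀) :=
  isSmooth_of_extend X x I₀ (fun φ _ κ hl => exists_extend_of_locally I₀ h φ κ hl) hloc

end Groth.Agent.HilbLci76
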