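import Groth.Agent.KRRLib.ConormalRank
import Groth.Agent.ZClosLib.CohDescent
import Groth.Agent.CIntLib.RegStalk
import Groth.Agent.ParShLib.ResStalk
import Groth.Agent.DefGlueLib.Rel

/-! The conormal sheaf of a regular closed immersion is finite locally free. -/

set_option autoImplicit false
set_option linter.style.haveILetI false
set_option backward.isDefEq.respectTransparency false
set_option backward.isDefEq.respectTransparency.types false
universe u

open CategoryTheory AlgebraicGeometry RingTheory.Sequence
open scoped TensorProduct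

namespace Groth.Agent.HilbLci76

open Groth.Agent

theorem free_baseChange_ker {R S : Type u} [CommRing R] [CommRing S] [Algebra R S]
    (hsurj : Function.Surjective (algebraMap R S)) (rs : List R) (hreg : IsWeaklyRegular R rs)
    (hker : Ideal.ofList rs = RingHom.ker (algebraMap R S)) :
    Module.Free S (S ⊗[R] RingHom.ker (algebraMap R S)) := by
  classical
  let J := RingHom.ker (algebraMap R S)
  let r : Fin rs.length → R := fun i => rs[i]
  have hJ : Ideal.span (Set.range r) = J := by
    rw [← show Ideal.ofList rs = J from hker, Ideal.ofList]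
    congr 1
    ext w
    simp [r, List.mem_iff_getElem, Fin.exists_iff]
  let g : Fin rs.length → J := fun i => ⟨r i, hJ.le (Ideal.subset_span ⟨i, rfl⟩)⟩
  have hg : Submodule.span R (Set.range g) = ⊤ := by
    refine Submodule.map_injective_of_injective (f := J.subtype) Subtype.val_injective ?_
    rw [Submodule.map_span, ← Set.range_comp, Submodule.map_top, Submodule.range_subtype]
    exact hJ
  let φ : (Fin rs.length → S) →ₗ[S] S ⊗[R] J := Fintype.linearCombination S fun i => (1 : S) ⊗ₜ g i
  have hsur : Function.Surjective φ := fun v => by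
    induction v with
    | zero => exact ⟨0, map_zero _⟩
    | tmul s a =>
      obtain ⟨c, hc⟩ := (Submodule.mem_span_range_iff_exists_fun R).1 (hg.ge (Submodule.mem_top : a ∈ ⊤))
      refine ⟨fun i => s * algebraMap R S (c i), ?_⟩
      rw [Fintype.linearCombination_apply, ← hc, TensorProduct.tmul_sum]
      refine Finset.sum_congr rfl fun i _ => ?_
      rw [TensorProduct.smul_tmul', smul_eq_mul, mul_one, TensorProduct.tmul_smul, TensorProduct.smul_tmul',
        mul_comm, Algebra.smul_def]
    | add v w hv hw =>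
      obtain ⟨a, ha⟩ := hv
      obtain ⟨b, hb⟩ := hw
      exact ⟨a + b, by rw [map_add, ha, hb]⟩
  let e : S ≃ₗ[R] R ⧸ J := ((Submodule.quotEquivOfEq _ _ (by ext; rfl)).trans
    ((Algebra.linearMap R S).quotKerEquivOfSurjective hsurj)).symm
  let q : S ⊗[R] J ≃ₗ[R] J ⧸ (J • (⊤ : Submodule R J)) :=
    (TensorProduct.congr e (LinearEquiv.refl R J)).trans (TensorProduct.quotTensorEquivQuotSMul J J)
  have hkey : ∀ v : J, (1 : S) ⊗ₜ[R] v = 0 → v ∈ J • (⊤ : Submodule R J) := fun v hv => by
    have he1 : e 1 = Ideal.Quotient.mk J 1 := by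
      apply e.symm.injective
      rw [e.symm_apply_apply]
      exact (map_one (algebraMap R S)).symm
    have h1 : q ((1 : S) ⊗ₜ[R] v) = Submodule.Quotient.mk v := by
      show TensorProduct.quotTensorEquivQuotSMul J J (e 1 ⊗ₜ v) = _
      rw [he1, TensorProduct.quotTensorEquivQuotSMul_mk_tmul, one_smul]
    rw [hv, map_zero] at h1
    exact (Submodule.Quotient.mk_eq_zero _).1 h1.symm
  have hinj : Function.Injective φ := (injective_iff_map_eq_zero φ).2 fun s hs => by
    choose a ha using fun i => hsurj (s i)
    have h1 : (1 : S) ⊗ₜ[R] (∑ i, a i • g i) = 0 := by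
      rw [← hs, Fintype.linearCombination_apply, TensorProduct.tmul_sum]
      refine Finset.sum_congr rfl fun i _ => ?_
      rw [TensorProduct.tmul_smul, TensorProduct.smul_tmul', TensorProduct.smul_tmul', Algebra.smul_def, ha,
        smul_eq_mul]
    have hb : ∀ v ∈ J • (⊤ : Submodule R J), ∃ b : Fin rs.length → R, (∀ i, b i ∈ J) ∧ v = ∑ i, b i • g i := by
      intro v hv
      refine Submodule.smul_induction_on hv (fun c hc w _ => ?_) ?_
      · obtain ⟨d, hd⟩ := (Submodule.mem_span_range_iff_exists_fun R).1 (hg.ge (Submodule.mem_top : w ∈ ⊤))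
        exact ⟨fun i => c * d i, fun i => J.mul_mem_right _ hc, by
          rw [← hd, Finset.smul_sum]; exact Finset.sum_congr rfl fun i _ => by rw [mul_smul]⟩
      · rintro v w ⟨b, hb, rfl⟩ ⟨d, hd, rfl⟩
        exact ⟨b + d, fun i => add_mem (hb i) (hd i), by
          rw [← Finset.sum_add_distrib]; exact Finset.sum_congr rfl fun i _ => by rw [Pi.add_apply, add_smul]⟩
    obtain ⟨b, hbJ, hbe⟩ := hb _ (hkey _ h1)
    have h2 : DefGlueLib.dot r (a - b) = 0 := by
      have h3 := congrArg (fun v : J => (v : R)) hbe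
      simp only [AddSubmonoidClass.coe_finset_sum, SetLike.val_smul, smul_eq_mul] at h3
      rw [DefGlueLib.dot_apply]
      simp only [Pi.sub_apply, sub_mul, Finset.sum_sub_distrib]
      exact sub_eq_zero.2 h3
    have h4 : a - b ∈ DefGlueLib.trivR r := DefGlueLib.mem_trivR_of_isKoszulRegularSeq
      (Groth.Agent.S15821.result R rs hreg).1 h2
    have h5 : ∀ u ∈ DefGlueLib.trivR r, ∀ i, u i ∈ J := fun u hu => by
      induction hu using Submodule.span_induction with
      | mem w hw =>
        obtain ⟨p, rfl⟩ := hw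
        exact fun i => sub_mem (J.mul_mem_right _ (g p.2).2) (J.mul_mem_right _ (g p.1).2)
      | zero => exact fun i => zero_mem _
      | add v w _ _ hv hw => exact fun i => add_mem (hv i) (hw i)
      | smul c v _ hv => exact fun i => J.mul_mem_left _ (hv i)
    funext i
    rw [← ha i]
    have := add_mem (h5 _ h4 i) (hbJ i)
    rw [Pi.sub_apply, sub_add_cancel] at this
    exact this
  exact Module.Free.of_equiv (LinearEquiv.ofBijective φ ⟨hinj, hsur⟩)

theorem isFinLocFree_conormal {Y X : Scheme.{u}} [IsLocallyNoetherian X] (i : Y ⟶ X)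
    (hi : Mor2.IsRegularClosedImmersion i) : FlatMod.IsFinLocFree (Omega.conormal i) := by
  haveI := hi.1
  haveI : IsLocallyNoetherian Y := LocallyOfFiniteType.isLocallyNoetherian i
  have hcoh : Coh.IsCoh (Omega.conormal i) := ZClosLib.isCoh_pullback i
    (QCoh.isCoh_kernel QCoh.isCoh_structureModule' (ParShLib.isCoh_quotMod i.ker) _)
  refine QCoh.isFlat_and_isFP_iff.1 ⟨fun y => ?_, QCoh.isCoh_iff_isFP.1 hcoh⟩
  letI := (i.stalkMap y).hom.toAlgebra
  obtain ⟨U, hU, hy, rs, hrs, hI⟩ := hi.2 y
  obtain ⟨ls, hls, hlk⟩ := CIntLib.regAt_of_affine i y ⟨U, hU⟩ hy rs hrs.toIsWeaklyRegular hI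
  haveI := free_baseChange_ker (S := Y.presheaf.stalk y) (i.stalkMap_surjective y) ls hls hlk
  obtain ⟨e⟩ := KRRLib.exists_conormal_stalk_equiv i y
  exact Module.Flat.of_linearEquiv e

end Groth.Agent.HilbLci76
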