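import Groth.Agent.ArtFunLib.HilbSit
import Groth.Agent.ArtFunLib.HilbFib
import Groth.Agent.DefGlueLib.Rel
import Groth.Agent.S15821

/-! Flat quotients defined by a regular sequence lift along small extensions. -/

set_option autoImplicit false
set_option linter.style.haveILetI false
set_option backward.isDefEq.respectTransparency false
universe u

open CategoryTheory CategoryTheory.Limits AlgebraicGeometry ArtFun ArtFun.Art Opposite

namespace Groth.Agent.HilbLci76

open Groth.Agent.ArtFunLib Groth.Agent.ArtFunLib.HilbAffine Groth.Agent.ArtFunLib.HilbSit Groth.Agent.DefGlueLib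

theorem exists_trivR_lift {R S : Type u} [CommRing R] [CommRing S] (π : R →+* S) (hπ : Function.Surjective π)
    {σ : Type} [Fintype σ] [DecidableEq σ] (h : σ → R) {u : σ → S} (hu : u ∈ trivR (π ∘ h)) :
    ∃ v ∈ trivR h, π ∘ v = u := by
  induction hu using Submodule.span_induction with
  | mem w hw =>
    obtain ⟨p, rfl⟩ := hw
    refine ⟨_, Submodule.subset_span ⟨p, rfl⟩, funext fun i => ?_⟩
    simp only [Function.comp_apply, Pi.sub_apply, Pi.smul_apply, smul_eq_mul, map_sub, map_mul, Pi.single_apply]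
    split_ifs <;> simp
  | zero => exact ⟨0, zero_mem _, funext fun i => map_zero π⟩
  | add v w _ _ hv hw =>
    obtain ⟨a, ha, rfl⟩ := hv
    obtain ⟨b, hb, rfl⟩ := hw
    exact ⟨a + b, add_mem ha hb, funext fun i => map_add π _ _⟩
  | smul s v _ hv =>
    obtain ⟨a, ha, rfl⟩ := hv
    obtain ⟨r, rfl⟩ := hπ s
    exact ⟨r • a, Submodule.smul_mem _ r ha, funext fun i => map_mul π _ _⟩

variable {k : Type u} [Field k] {X : Scheme.{u}} (x : X ⟶ specPt k) (U : X.affineOpens) {σ : Type} [Fintype σ]
  [DecidableEq σ] (f : σ → Γ(X, U.1))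

/-- Lifts of `f` to `X ×_k Spec A` have only trivial relations. -/
def TrivRel (A : Art k k) : Prop :=
  ∀ h : σ → Γ(XA x A, (W x A U).1), (∀ i, rho x A U (h i) = f i) → ∀ a, dot h a = 0 → a ∈ trivR h

variable {x U f}

theorem gen_small {B A : Art k k} (p : B ⟶ A) (hp : IsSmallExt p) :
    ∃ t : B, RingHom.ker p.toAlgHom.toRingHom = Ideal.span {t} ∧ t ≠ 0 ∧
      IsLocalRing.maximalIdeal B * Ideal.span {t} = ⊥ := by
  obtain ⟨t, ht⟩ := hp.2.2.1
  have hkt : RingHom.ker p.toAlgHom.toRingHom = Ideal.span {t} := ht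
  exact ⟨t, hkt, fun h0 => hp.2.1 (ht.trans (by show Ideal.span {t} = ⊥; rw [h0, Ideal.span_singleton_zero])),
    by rw [← hkt]; exact hp.2.2.2⟩

variable (x U f) in
/-- The relations step. -/
theorem rho_zero_relation {B A : Art k k} (p : B ⟶ A) (hp : IsSmallExt p) (hA : TrivRel x U f A)
    (t : B) (hkt : RingHom.ker p.toAlgHom.toRingHom = Ideal.span {t})
    (h : σ → Γ(XA x B, (W x B U).1)) (hh : ∀ i, rho x B U (h i) = f i) (a : σ → Γ(XA x B, (W x B U).1))
    (z : Γ(XA x B, (W x B U).1)) (ha : dot h a = c x B U t * z) :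
    ∃ v ∈ trivR h, ∃ w, a = v + c x B U t • w := by
  have hπt : pi x p U (c x B U t) = 0 := by
    rw [pi_c, show p t = 0 from RingHom.mem_ker.1 (hkt.ge (Ideal.mem_span_singleton_self t)), map_zero]
  have h1 : pi x p U ∘ a ∈ trivR (pi x p U ∘ h) := hA _ (fun i => (rho_pi x p U _).trans (hh i)) _ (by
    have := congrArg (pi x p U) ha
    rw [dot_apply, map_sum, map_mul (pi x p U), hπt, zero_mul] at this
    rw [dot_apply, ← this]
    exact Finset.sum_congr rfl fun i _ => (map_mul (pi x p U) _ _).symm)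
  obtain ⟨v, hv, hve⟩ := exists_trivR_lift (pi x p U) (pi_spec x p hp.1 U).1 h h1
  have h2 : ∀ i, ∃ w, a i - v i = c x B U t * w := fun i => by
    have h3 : a i - v i ∈ RingHom.ker (pi x p U) := by
      rw [RingHom.mem_ker, map_sub, sub_eq_zero]; exact (congrFun hve i).symm
    rw [(pi_spec x p hp.1 U).2, hkt, Ideal.map_span, Set.image_singleton, Ideal.mem_span_singleton] at h3
    exact h3
  choose w hw using h2
  exact ⟨v, hv, w, funext fun i => by
    rw [Pi.add_apply, Pi.smul_apply, smul_eq_mul, ← hw i, add_sub_cancel]⟩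

theorem mul_eq_zero_of_rho {B : Art k k} (t : B) (hm : IsLocalRing.maximalIdeal B * Ideal.span {t} = ⊥)
    {z : Γ(XA x B, (W x B U).1)} (hz : rho x B U z = 0) : c x B U t * z = 0 := by
  have h1 : z ∈ (IsLocalRing.maximalIdeal B).map (c x B U) := (rho_spec x B U).2.le (RingHom.mem_ker.2 hz)
  have : (IsLocalRing.maximalIdeal B).map (c x B U) ≤
      LinearMap.ker (LinearMap.mulLeft Γ(XA x B, (W x B U).1) (c x B U t)) :=
    Ideal.map_le_iff_le_comap.2 fun b hb => by
      show c x B U t * c x B U b = 0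
      have hbt : b * t ∈ IsLocalRing.maximalIdeal B * Ideal.span {t} :=
        Ideal.mul_mem_mul hb (Ideal.mem_span_singleton_self t)
      rw [hm, Ideal.mem_bot] at hbt
      rw [← map_mul, mul_comm, hbt, map_zero]
  exact this h1

theorem rho_eq_zero_of_mul {B : Art k k} (t : B) (ht0 : t ≠ 0) {z : Γ(XA x B, (W x B U).1)}
    (hz : c x B U t * z = 0) : rho x B U z = 0 := by
  have h1 := HilbRing.mem_of_smul_mem (I := ⊥) (c x B U)
    ((flat_c x B U).comp (RingHom.Flat.of_bijective (RingEquiv.quotientBot _).symm.bijective)) t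
    (IsLocalRing.maximalIdeal B) (fun b hb => by
      by_contra hnb
      exact ht0 ((IsLocalRing.notMem_maximalIdeal.1 hnb).mul_left_eq_zero.mp hb)) z (Ideal.mem_bot.2 hz)
  rw [sup_bot_eq, ← (rho_spec x B U).2] at h1
  exact h1

theorem trivRel_base (hf : ∀ a, dot f a = 0 → a ∈ trivR f) (A : Art k k) : TrivRel x U f A := by
  refine ArtFunLib.surjective_induction (P := fun A B _ => TrivRel x U f A → TrivRel x U f B) ?_ ?_ ?_
    (toBase A) (toBase_surjective A) ?_
  · intro A B e he hA h hh a ha
    haveI := he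
    have hbij : Function.Bijective e := ArtFunLib.bijective_of_isIso e
    have hinj : Function.Injective (pi x e U) := by
      rw [RingHom.injective_iff_ker_eq_bot, (pi_spec x e hbij.2 U).2,
        (RingHom.injective_iff_ker_eq_bot e.toAlgHom.toRingHom).1 hbij.1, Ideal.map_bot]
    obtain ⟨v, hv, hve⟩ := exists_trivR_lift (pi x e U) (pi_spec x e hbij.2 U).1 h
      (hA _ (fun i => (rho_pi x e U _).trans (hh i)) (pi x e U ∘ a) (by
        have := congrArg (pi x e U) ha
        rw [dot_apply, map_sum, map_zero] at this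
        rw [dot_apply, ← this]
        exact Finset.sum_congr rfl fun i _ => (map_mul (pi x e U) _ _).symm))
    rwa [← funext fun i => hinj (congrFun hve i)]
  · intro A B p hp hA h hh a ha
    obtain ⟨t, hkt, ht0, hm⟩ := gen_small p hp
    obtain ⟨v, hv, w, rfl⟩ := rho_zero_relation x U f p hp hA t hkt h hh a 0 (by rw [ha, mul_zero])
    rw [map_add, dot_eq_zero_of_mem_trivR h hv, zero_add, map_smul, smul_eq_mul] at ha
    have h1 : dot f (rho x B U ∘ w) = 0 := by
      have := rho_eq_zero_of_mul t ht0 ha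
      rw [dot_apply, map_sum] at this
      rw [dot_apply, ← this]
      exact Finset.sum_congr rfl fun i _ => by rw [map_mul, hh i]; rfl
    obtain ⟨r, hr, hre⟩ := exists_trivR_lift (rho x B U) (rho_spec x B U).1 h
      (u := rho x B U ∘ w) (by rw [show rho x B U ∘ h = f from funext hh]; exact hf _ h1)
    have h2 : c x B U t • w = c x B U t • r := funext fun i => by
      simp only [Pi.smul_apply, smul_eq_mul]
      rw [← sub_eq_zero, ← mul_sub]
      exact mul_eq_zero_of_rho t hm (by rw [map_sub, sub_eq_zero]; exact (congrFun hre i).symm)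
    rw [h2]
    exact add_mem hv (Submodule.smul_mem _ _ hr)
  · intro A B C p q _ _ h1 h2 hA
    exact h1 (h2 hA)
  · intro h hh a ha
    obtain ⟨r, hr, hre⟩ := exists_trivR_lift (rho x (base k k) U) (rho_spec x (base k k) U).1 h
      (u := rho x (base k k) U ∘ a) (by
        rw [show rho x (base k k) U ∘ h = f from funext hh]
        refine hf _ ?_
        have := congrArg (rho x (base k k) U) ha
        rw [dot_apply, map_sum, map_zero] at this
        rw [dot_apply, ← this]
        exact Finset.sum_congr rfl fun i _ => by rw [map_mul, hh i]; rfl)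
    have hinj : Function.Injective (rho x (base k k) U) := by
      rw [RingHom.injective_iff_ker_eq_bot, (rho_spec x (base k k) U).2,
        show IsLocalRing.maximalIdeal (base k k) = ⊥ from eq_bot_iff.2 fun b hb =>
          Ideal.mem_bot.2 ((mem_maximalIdeal_iff (base k k) b).1 hb), Ideal.map_bot]
    rwa [← funext fun i => hinj (congrFun hre i)]

/-- A flat quotient whose closed fibre is cut out by `f` is cut out by any of its lifts of `f`. -/
theorem eq_span {A : Art k k} (IA : Ideal Γ(XA x A, (W x A U).1))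
    (hflat : ((Ideal.Quotient.mk IA).comp (c x A U)).Flat) (g : σ → Γ(XA x A, (W x A U).1)) (hg : ∀ i, g i ∈ IA)
    (h0 : IA.map (rho x A U) ≤ (Ideal.span (Set.range g)).map (rho x A U)) : IA = Ideal.span (Set.range g) := by
  refine le_antisymm ?_ (Ideal.span_le.2 (Set.range_subset_iff.2 hg))
  let M := (IsLocalRing.maximalIdeal A).map (c x A U)
  have h1 : IA ≤ Ideal.span (Set.range g) ⊔ M * IA := fun a ha => by
    obtain ⟨b, hb, hbe⟩ := (Ideal.mem_map_iff_of_surjective _ (rho_spec x A U).1).1 (h0 (Ideal.mem_map_of_mem _ ha))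
    rw [← add_sub_cancel b a]
    refine Submodule.add_mem_sup hb (HilbRing.inf_map_le (c x A U) hflat _ ⟨sub_mem ha
      ((Ideal.span_le.2 (Set.range_subset_iff.2 hg)) hb), ?_⟩)
    rw [← (rho_spec x A U).2]
    exact RingHom.mem_ker.2 (by rw [map_sub, hbe, sub_self])
  have hn : ∀ n, IA ≤ Ideal.span (Set.range g) ⊔ M ^ n * IA := fun n => by
    induction n with
    | zero => rw [pow_zero, Ideal.one_eq_top, Ideal.top_mul]; exact le_sup_right
    | succ n ih =>
      refine ih.trans (sup_le le_sup_left ?_)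
      refine (Ideal.mul_mono_right h1).trans ?_
      rw [Ideal.mul_sup, ← mul_assoc, ← pow_succ]
      exact sup_le (le_sup_of_le_left Ideal.mul_le_right) le_sup_right
  obtain ⟨n, hn0⟩ := (isArtinianRing_iff_isNilpotent_maximalIdeal A).1 inferInstance
  refine (hn n).trans ?_
  rw [show M ^ n = ⊥ by rw [← Ideal.map_pow, hn0, Ideal.zero_eq_bot, Ideal.map_bot], Ideal.bot_mul, sup_bot_eq]

/-- Local lifts. -/
theorem exists_local_lift (I₀ : X.IdealSheafData) (l : List Γ(X, U.1))
    (hl : RingTheory.Sequence.IsWeaklyRegular Γ(X, U.1) l) (hI : I₀.ideal U = Ideal.ofList l)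
    {B A : Art k k} (p : B ⟶ A) (hp : IsSmallExt p) (IA : (localHilb X x I₀).obj A) :
    ∃ J : Ideal Γ(XA x B, (W x B U).1), ((Ideal.Quotient.mk J).comp (c x B U)).Flat ∧
      J.map (pi x p U) = IA.1.ideal (W x A U) := by
  obtain ⟨t, hkt, ht0, hm⟩ := gen_small p hp
  let f : Fin l.length → Γ(X, U.1) := fun i => l[i]
  have hf : ∀ a, dot f a = 0 → a ∈ trivR f := fun a ha =>
    mem_trivR_of_isKoszulRegularSeq (S15821.result _ l hl).1 ha
  have hspan : Ideal.span (Set.range f) = I₀.ideal U := by
    rw [hI, Ideal.ofList]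
    congr 1
    ext w
    simp [f, List.mem_iff_getElem, Fin.exists_iff]
  have hex : ∀ i, ∃ g ∈ IA.1.ideal (W x A U), rho x A U g = f i := fun i =>
    (Ideal.mem_map_iff_of_surjective _ (rho_spec x A U).1).1 ((HilbFib.map_rho IA U).symm ▸
      hspan.le (Ideal.subset_span ⟨i, rfl⟩))
  choose g hg hgf using hex
  choose h hh using fun i => (pi_spec x p hp.1 U).1 (g i)
  have hflat := flat_quotient x IA.1 IA.2.1 U
  have hIA : IA.1.ideal (W x A U) = Ideal.span (Set.range g) := eq_span _ hflat g hg (by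
    rw [HilbFib.map_rho IA U, Ideal.map_span, ← Set.range_comp, ← hspan]
    exact le_of_eq (congrArg Ideal.span (congrArg Set.range (funext fun i => (hgf i).symm))))
  have hJ : (Ideal.span (Set.range h)).map (pi x p U) = IA.1.ideal (W x A U) := by
    rw [hIA, Ideal.map_span, ← Set.range_comp, show pi x p U ∘ h = g from funext hh]
  have hρh : ∀ i, rho x B U (h i) = f i := fun i => by rw [← rho_pi x p, hh, hgf]
  refine ⟨_, HilbObsRing.flat_of_lift (sit x p hp.1 t hkt ht0 hm U) hflat (rho_spec x B U).1 _ hJ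
    (fun z hz => ?_), hJ⟩
  obtain ⟨a, ha⟩ := Ideal.mem_span_range_iff_exists_fun.1 hz
  have ha' : dot h a = c x B U t * z := (dot_apply h a).trans ha
  obtain ⟨v, hv, w, rfl⟩ := rho_zero_relation x U f p hp (trivRel_base hf A) t hkt h hρh a z ha'
  rw [map_add, dot_eq_zero_of_mem_trivR h hv, zero_add, map_smul, smul_eq_mul] at ha'
  have h1 : rho x B U z = rho x B U (dot h w) := by
    rw [← sub_eq_zero, ← map_sub]
    exact rho_eq_zero_of_mul t ht0 (by rw [mul_sub, ha', sub_self])
  show rho x B U z ∈ (IA.1.ideal (W x A U)).map (rho x A U)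
  rw [h1, HilbFib.map_rho IA U, dot_apply, map_sum, ← hspan]
  exact sum_mem fun i _ => by rw [map_mul, hρh]; exact Ideal.mul_mem_left _ _ (Ideal.subset_span ⟨i, rfl⟩)

end Groth.Agent.HilbLci76
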